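import Mathlib
import Cfsg.Agent.Lib.PGroupCounting.Maximal

/-!
# Numbers of subgroups of given `p`-power order

* `card_subgroups_modEq_one`: Frobenius' congruence mod `p`.
* `cast_card_subgroups_eq_sum`: the enumeration principle mod `p²` inside a `p`-group.
* `card_subgroups_modEq_sylow`: mod `p²`, reduction to a Sylow `p`-subgroup.
-/

set_option autoImplicit false

open scoped Pointwise Classical

namespace CfsgLib.PGroupCounting

section bridge

variable {G : Type*} [Group G]

/-- Subgroups of a subgroup `K` correspond to subgroups of `G` contained in `K`. -/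
theorem card_subgroups_le (K : Subgroup G) (n : ℕ) :
    Nat.card {H : Subgroup G // H ≤ K ∧ Nat.card H = n}
      = Nat.card {H : Subgroup K // Nat.card H = n} := by
  refine (Nat.card_congr
    { toFun := fun H => ⟨H.1.map K.subtype, Subgroup.map_subtype_le _, by
        rw [Subgroup.card_map_of_injective K.subtype_injective]; exact H.2⟩
      invFun := fun H => ⟨H.1.subgroupOf K, by
        rw [Nat.card_congr (Subgroup.subgroupOfEquivOfLe H.2.1).toEquiv]; exact H.2.2⟩
      left_inv := fun H => Subtype.ext (Subgroup.comap_map_eq_self_of_injective K.subtype_injective _)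
      right_inv := fun H => Subtype.ext (Subgroup.map_subgroupOf_eq_of_le H.2.1) }).symm

theorem card_subgroups_card_self [Finite G] :
    Nat.card {H : Subgroup G // Nat.card H = Nat.card G} = 1 := by
  haveI : Unique {H : Subgroup G // Nat.card H = Nat.card G} :=
    { default := ⟨⊤, Subgroup.card_top⟩
      uniq := fun H => Subtype.ext (Subgroup.eq_top_of_card_eq _ H.2) }
  exact Nat.card_unique

end bridge

section pGroup

variable {P : Type*} [Group P] [Finite P] {p : ℕ} [hp : Fact p.Prime]

theorem ne_top_of_card_eq {n a : ℕ} (hn : Nat.card P = p ^ n) (ha : a < n) {H : Subgroup P}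
    (hH : Nat.card H = p ^ a) : H ≠ ⊤ := by
  rintro rfl
  rw [Subgroup.card_top, hn] at hH
  exact absurd (Nat.pow_right_injective hp.out.two_le hH) ha.ne'

theorem card_of_index_eq {n : ℕ} (hn : Nat.card P = p ^ n) (hn1 : 1 ≤ n) {M : Subgroup P}
    (hM : M.index = p) : Nat.card M = p ^ (n - 1) := by
  have h1 := M.card_mul_index
  rw [hM, hn, show p ^ n = p ^ (n - 1) * p by rw [← pow_succ]; congr 1; omega] at h1
  exact Nat.eq_of_mul_eq_mul_right hp.out.pos h1

/-- The subgroups of order `p^a` counted with the number of index `p` subgroups containing them. -/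
theorem sum_card_le_eq [Fintype (Subgroup P)] (a : ℕ) (A : Finset (Subgroup P)) :
    ∑ M ∈ A, Nat.card {H : Subgroup P // H ≤ M ∧ Nat.card H = p ^ a}
      = ∑ H ∈ Finset.univ.filter (fun H : Subgroup P => Nat.card H = p ^ a),
          (A.filter (fun M => H ≤ M)).card := by
  classical
  simp only [Finset.card_filter]
  rw [Finset.sum_comm]
  refine Finset.sum_congr rfl fun M _ => ?_
  rw [← Finset.card_filter, Nat.card_eq_fintype_card, Fintype.card_subtype, Finset.filter_filter]
  congr 1
  ext H
  simp [and_comm]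

theorem card_filter_maximal_ge [Fintype (Subgroup P)] (H : Subgroup P) :
    ((Finset.univ.filter (fun M : Subgroup P => M.index = p)).filter (fun M => H ≤ M)).card
      = Nat.card {M : Subgroup P // M.index = p ∧ H ≤ M} := by
  classical
  rw [Nat.card_eq_fintype_card, Fintype.card_subtype, Finset.filter_filter]

theorem cast_modEq {m a b : ℕ} (h : a ≡ b [MOD m]) : (a : ZMod m) = b :=
  (ZMod.natCast_eq_natCast_iff a b m).mpr h

/-- In a finite `p`-group the number of subgroups of each order is `1` mod `p`. -/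
theorem card_subgroups_pGroup_modEq_one :
    ∀ (n : ℕ) {P : Type*} [Group P] [Finite P], Nat.card P = p ^ n → ∀ a ≤ n,
      Nat.card {H : Subgroup P // Nat.card H = p ^ a} ≡ 1 [MOD p] := by
  intro n
  induction n with
  | zero =>
    intro P _ _ hn a ha
    rw [Nat.le_zero.mp ha, ← hn, card_subgroups_card_self]
  | succ n ih =>
    intro P _ _ hn a ha
    rcases ha.eq_or_lt with rfl | halt
    · rw [← hn, card_subgroups_card_self]
    classical
    haveI := Fintype.ofFinite (Subgroup P)
    have hP : IsPGroup p P := IsPGroup.of_card hn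
    haveI : Nontrivial P := Finite.one_lt_card_iff_nontrivial.mp (by
      rw [hn]; exact one_lt_pow' hp.out.one_lt (by omega))
    set A := Finset.univ.filter (fun M : Subgroup P => M.index = p) with hA
    rw [← ZMod.natCast_eq_natCast_iff]
    have e1 : ∀ M ∈ A, ((Nat.card {H : Subgroup P // H ≤ M ∧ Nat.card H = p ^ a} : ℕ) : ZMod p) = 1 := by
      intro M hM
      rw [card_subgroups_le, cast_modEq (ih (card_of_index_eq hn (by omega)
        (Finset.mem_filter.mp hM).2) a (by omega)), Nat.cast_one]
    have e2 : ∀ H ∈ Finset.univ.filter (fun H : Subgroup P => Nat.card H = p ^ a),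
        (((A.filter (fun M => H ≤ M)).card : ℕ) : ZMod p) = 1 := by
      intro H hH
      rw [hA, card_filter_maximal_ge, cast_modEq (card_index_prime_ge_modEq_one hP
        (ne_top_of_card_eq hn halt (Finset.mem_filter.mp hH).2)), Nat.cast_one]
    have h := congrArg (Nat.cast (R := ZMod p)) (sum_card_le_eq (p := p) a A)
    rw [Nat.cast_sum, Nat.cast_sum, Finset.sum_congr rfl e1, Finset.sum_congr rfl e2,
      Finset.sum_const, Finset.sum_const, nsmul_one, nsmul_one] at h
    rw [Nat.card_eq_fintype_card, Fintype.card_subtype, ← h]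
    have := cast_modEq (card_index_prime_modEq_one hP)
    rwa [Nat.card_eq_fintype_card, Fintype.card_subtype] at this

theorem cast_sq_sub_one {c : ℕ} (hc : c ≡ 1 [MOD p]) : ((c : ZMod (p ^ 2)) - 1) ^ 2 = 0 := by
  have h : ((p : ℤ)) ∣ (c : ℤ) - 1 := (Nat.modEq_iff_dvd.mp hc.symm)
  obtain ⟨k, hk⟩ := h
  have h2 : (c : ZMod (p ^ 2)) - 1 = (p : ZMod (p ^ 2)) * (k : ZMod (p ^ 2)) := by
    have := congrArg (fun z : ℤ => (z : ZMod (p ^ 2))) hk
    push_cast at this
    exact this
  rw [h2, mul_pow, ← Nat.cast_pow, ZMod.natCast_self, zero_mul]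

/-- The enumeration principle mod `p²`: `s = ∑_M s(M) - (N - 1)`, `N` the number of index `p` subgroups. -/
theorem cast_card_subgroups_eq_sum [Fintype (Subgroup P)] {n a : ℕ}
    (hn : Nat.card P = p ^ n) (ha : a + 2 ≤ n) :
    ((Nat.card {H : Subgroup P // Nat.card H = p ^ a} : ℕ) : ZMod (p ^ 2)) =
      (∑ M ∈ Finset.univ.filter (fun M : Subgroup P => M.index = p),
        ((Nat.card {H : Subgroup P // H ≤ M ∧ Nat.card H = p ^ a} : ℕ) : ZMod (p ^ 2)))
      - ((Nat.card {M : Subgroup P // M.index = p} : ℕ) : ZMod (p ^ 2)) + 1 := by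
  classical
  have hP : IsPGroup p P := IsPGroup.of_card hn
  haveI : Nontrivial P := Finite.one_lt_card_iff_nontrivial.mp (by
    rw [hn]; exact one_lt_pow' hp.out.one_lt (by omega))
  set A := Finset.univ.filter (fun M : Subgroup P => M.index = p) with hA
  set S := Finset.univ.filter (fun H : Subgroup P => Nat.card H = p ^ a) with hS
  set N := Nat.card {M : Subgroup P // M.index = p} with hN
  have hAcard : A.card = N := by rw [hN, Nat.card_eq_fintype_card, Fintype.card_subtype]
  have hN1 := cast_sq_sub_one (card_index_prime_modEq_one hP)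
  have hp0 : ∀ u v : ℕ, p ∣ u → (p : ℤ) ∣ (v : ℤ) - 1 →
      (u : ZMod (p ^ 2)) * ((v : ZMod (p ^ 2)) - 1) = 0 := by
    rintro u v ⟨i, rfl⟩ ⟨j, hj⟩
    have h2 := congrArg (fun z : ℤ => (z : ZMod (p ^ 2))) hj
    have hpp : ((p : ZMod (p ^ 2))) * p = 0 := by
      rw [← Nat.cast_mul, ← sq]; exact ZMod.natCast_self _
    push_cast at h2 ⊢
    rw [h2]
    linear_combination (i : ZMod (p ^ 2)) * (j : ZMod (p ^ 2)) * hpp
  have hpair : ∀ x ∈ A.offDiag, Nat.card ↥(x.1 ⊓ x.2) = p ^ (n - 2) := by
    intro x hx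
    rw [Finset.mem_offDiag, hA, Finset.mem_filter, Finset.mem_filter] at hx
    obtain ⟨⟨-, h1⟩, ⟨-, h2⟩, hne⟩ := hx
    haveI := normal_of_index_eq hP h1
    have hsup : x.1 ⊔ x.2 = ⊤ := by
      have hle : x.1 ≤ x.1 ⊔ x.2 := le_sup_left
      have hd := Subgroup.index_dvd_of_le hle
      rw [h1] at hd
      rcases hp.out.eq_one_or_self_of_dvd _ hd with h | h
      · exact Subgroup.index_eq_one.mp h
      · exfalso
        have e1 : x.1 = x.1 ⊔ x.2 := by
          refine Subgroup.eq_of_le_of_card_ge hle (le_of_eq ?_)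
          rw [card_of_index_eq hn (by omega) h, card_of_index_eq hn (by omega) h1]
        have e2 : x.2 = x.1 := by
          refine Subgroup.eq_of_le_of_card_ge (e1 ▸ le_sup_right) (le_of_eq ?_)
          rw [card_of_index_eq hn (by omega) h2, card_of_index_eq hn (by omega) h1]
        exact hne e2.symm
    have hidx : (x.1 ⊓ x.2).index = p * p := by
      rw [← Subgroup.relIndex_mul_index (inf_le_right : x.1 ⊓ x.2 ≤ x.2), Subgroup.inf_relIndex_right,
        ← Subgroup.relIndex_sup_left, hsup, Subgroup.relIndex_top_right, h1, h2]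
    have h3 := (x.1 ⊓ x.2).card_mul_index
    rw [hidx, hn, show p ^ n = p ^ (n - 2) * (p * p) by
      rw [← sq, ← pow_add]; congr 1; omega] at h3
    exact Nat.eq_of_mul_eq_mul_right (Nat.mul_pos hp.out.pos hp.out.pos) h3
  have hpairsum : ∑ x ∈ A.offDiag,
      ((Nat.card {H : Subgroup P // H ≤ x.1 ⊓ x.2 ∧ Nat.card H = p ^ a} : ℕ) : ZMod (p ^ 2))
        = (A.offDiag.card : ℕ) := by
    rw [← sub_eq_zero, Finset.card_eq_sum_ones, Nat.cast_sum, ← Finset.sum_sub_distrib, Nat.cast_one]
    rw [← Finset.sum_fiberwise_of_maps_to (s := A.offDiag) (g := fun x => x.1 ⊓ x.2)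
      (fun x hx => Finset.mem_image_of_mem _ hx)]
    refine Finset.sum_eq_zero fun D hD => ?_
    obtain ⟨x₀, hx₀, rfl⟩ := Finset.mem_image.mp hD
    have hDcard := hpair x₀ hx₀
    rw [Finset.sum_congr rfl (g := fun _ => ((Nat.card {H : Subgroup P //
        H ≤ x₀.1 ⊓ x₀.2 ∧ Nat.card H = p ^ a} : ℕ) : ZMod (p ^ 2)) - 1)
      (fun x hx => by rw [(Finset.mem_filter.mp hx).2]), Finset.sum_const, nsmul_eq_mul]
    refine hp0 _ _ ?_ ?_
    · have e : A.offDiag.filter (fun x => x.1 ⊓ x.2 = x₀.1 ⊓ x₀.2)
          = (A.filter (fun M => x₀.1 ⊓ x₀.2 ≤ M)).offDiag := by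
        ext x
        simp only [Finset.mem_filter, Finset.mem_offDiag]
        constructor
        · rintro ⟨⟨h1, h2, h3⟩, h4⟩
          exact ⟨⟨h1, h4 ▸ inf_le_left⟩, ⟨h2, h4 ▸ inf_le_right⟩, h3⟩
        · rintro ⟨⟨h1, h4⟩, ⟨h2, h5⟩, h3⟩
          refine ⟨⟨h1, h2, h3⟩, (Subgroup.eq_of_le_of_card_ge (le_inf h4 h5) ?_).symm⟩
          rw [hDcard, hpair x (Finset.mem_offDiag.mpr ⟨h1, h2, h3⟩)]
      rw [e, Finset.offDiag_card, hA, card_filter_maximal_ge]
      have hc := card_index_prime_ge_modEq_one hP (ne_top_of_card_eq hn (by omega) hDcard)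
      rw [← Nat.mul_sub_one]
      refine dvd_mul_of_dvd_right ((Nat.modEq_iff_dvd' ?_).mp hc.symm) _
      by_contra h
      have h0 : Nat.card {M : Subgroup P // M.index = p ∧ x₀.1 ⊓ x₀.2 ≤ M} = 0 := by omega
      rw [h0] at hc
      exact hp.out.ne_one (Nat.dvd_one.mp (Nat.modEq_zero_iff_dvd.mp hc.symm))
    · rw [card_subgroups_le]
      exact_mod_cast Nat.modEq_iff_dvd.mp
        (card_subgroups_pGroup_modEq_one _ hDcard a (by omega)).symm
  -- double counting
  have d1 := congrArg (Nat.cast (R := ZMod (p ^ 2))) (sum_card_le_eq (p := p) a A)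
  have d2 : ∑ x ∈ A.offDiag, Nat.card {H : Subgroup P // H ≤ x.1 ⊓ x.2 ∧ Nat.card H = p ^ a}
      = ∑ H ∈ S, ((A.filter (fun M => H ≤ M)).card * (A.filter (fun M => H ≤ M)).card
          - (A.filter (fun M => H ≤ M)).card) := by
    have e : ∀ H : Subgroup P, (A.filter (fun M => H ≤ M)).offDiag
        = A.offDiag.filter (fun x => H ≤ x.1 ∧ H ≤ x.2) := fun H => by
      ext x; simp only [Finset.mem_offDiag, Finset.mem_filter]; tauto
    have e' : ∀ H : Subgroup P, (A.filter (fun M => H ≤ M)).card * (A.filter (fun M => H ≤ M)).card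
        - (A.filter (fun M => H ≤ M)).card = (A.offDiag.filter (fun x => H ≤ x.1 ∧ H ≤ x.2)).card := fun H => by
      rw [← Finset.offDiag_card, e]
    rw [Finset.sum_congr rfl (fun H _ => e' H)]
    simp only [Finset.card_filter]
    rw [Finset.sum_comm]
    refine Finset.sum_congr rfl fun x _ => ?_
    rw [← Finset.card_filter, Nat.card_eq_fintype_card, Fintype.card_subtype, hS, Finset.filter_filter]
    congr 1
    ext H
    simp [le_inf_iff, and_comm]
  have d2' := congrArg (Nat.cast (R := ZMod (p ^ 2))) d2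
  push_cast [Nat.cast_sub (Nat.le_mul_self _)] at d1 d2'
  rw [hpairsum, Finset.offDiag_card, Nat.cast_sub (Nat.le_mul_self _), Nat.cast_mul, hAcard] at d2'
  have hsq : ∀ H ∈ S, ((((A.filter (fun M => H ≤ M)).card : ℕ) : ZMod (p ^ 2)) - 1) ^ 2 = 0 := by
    intro H hH
    refine cast_sq_sub_one ?_
    rw [hA, card_filter_maximal_ge]
    exact card_index_prime_ge_modEq_one hP
      (ne_top_of_card_eq hn (by omega) (Finset.mem_filter.mp hH).2)
  have hScard : ((Nat.card {H : Subgroup P // Nat.card H = p ^ a} : ℕ) : ZMod (p ^ 2)) = (S.card : ℕ) := by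
    rw [Nat.card_eq_fintype_card, Fintype.card_subtype]
  rw [hScard]
  have hsum := Finset.sum_congr rfl hsq (s₁ := S)
  simp only [sub_sq, one_pow, mul_one, Finset.sum_add_distrib, Finset.sum_sub_distrib,
    Finset.sum_const_zero, Finset.sum_const, nsmul_one, ← Finset.mul_sum] at hsum
  simp only [Finset.sum_sub_distrib, ← sq] at d2'
  linear_combination hsum + d2' - d1 - hN1

end pGroup

section general

variable {G : Type*} [Group G] [Finite G] {p : ℕ} [hp : Fact p.Prime]

/-- If a finite `p`-group acts and all orbits have length divisible by `p ^ k`, so has the set. -/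
theorem pow_dvd_card_of_index_stabilizer {A X : Type*} [Group A] [MulAction A X] [Finite A] [Finite X] (k : ℕ)
    (h : ∀ x : X, k ∣ (MulAction.stabilizer A x).index) : k ∣ Nat.card X := by
  haveI := Fintype.ofFinite (Quotient (MulAction.orbitRel A X))
  rw [Nat.card_congr (MulAction.selfEquivSigmaOrbitsQuotientStabilizer A X), Nat.card_sigma]
  exact Finset.dvd_sum fun q _ => h _

/-- The orbit index of every point is `1` or a multiple of `p`. -/
theorem dvd_index_of_ne_top {A : Type*} [Group A] [Finite A] (hA : IsPGroup p A) {B : Subgroup A}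
    (hB : B ≠ ⊤) : p ∣ B.index := by
  obtain ⟨i, hi⟩ := hA.index B
  rcases Nat.eq_zero_or_pos i with h | h
  · subst h; exact absurd (Subgroup.index_eq_one.mp hi) hB
  · rw [hi]; exact dvd_pow_self p h.ne'

theorem dvd_sq_index_of_not_maximal {A : Type*} [Group A] [Finite A] (hA : IsPGroup p A) {B : Subgroup A}
    (hB : B ≠ ⊤) (hB' : B.index ≠ p) : p ^ 2 ∣ B.index := by
  obtain ⟨i, hi⟩ := hA.index B
  rw [hi]
  refine pow_dvd_pow p ?_
  by_contra h
  rcases (show i = 0 ∨ i = 1 by omega) with h | h <;> subst h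
  · exact hB (Subgroup.index_eq_one.mp hi)
  · exact hB' (hi.trans (pow_one p))

theorem smul_eq_iff_mem_normalizer (x : G) (H : Subgroup G) :
    MulAut.conj x • H = H ↔ x ∈ Subgroup.normalizer (H : Set G) := by
  rw [Subgroup.mem_normalizer_iff]
  constructor
  · intro h y
    conv_rhs => rw [← h, Subgroup.mem_pointwise_smul_iff_inv_smul_mem, ← map_inv, MulAut.smul_def,
      MulAut.conj_apply]
    simp [mul_assoc]
  · intro h
    ext y
    rw [Subgroup.mem_pointwise_smul_iff_inv_smul_mem, ← map_inv, MulAut.smul_def, MulAut.conj_apply]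
    rw [h (x⁻¹ * y * x⁻¹⁻¹)]
    simp [mul_assoc]

theorem card_conj_smul (x : G) (H : Subgroup G) :
    Nat.card ↥(MulAut.conj x • H) = Nat.card H :=
  (Nat.card_congr (Subgroup.equivSMul (MulAut.conj x) H).toEquiv).symm

theorem conj_smul_eq_self {x : G} {K : Subgroup G} (hx : x ∈ K) : MulAut.conj x • K = K :=
  (smul_eq_iff_mem_normalizer x K).mpr (Subgroup.le_normalizer hx)

/-- Subgroups of order `m` inside `K` and not inside `L`, as a set. -/
def subgroupsIn (m : ℕ) (K L : Subgroup G) : Set (Subgroup G) :=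
  {H | Nat.card H = m ∧ H ≤ K ∧ ¬ H ≤ L}

theorem subgroupsIn_smul {m : ℕ} {K L H : Subgroup G} {x : G} (hK : MulAut.conj x • K = K)
    (hL : MulAut.conj x • L = L) (hH : H ∈ subgroupsIn m K L) :
    MulAut.conj x • H ∈ subgroupsIn m K L := by
  refine ⟨(card_conj_smul x H).trans hH.1, ?_, fun h => hH.2.2 ?_⟩
  · rw [← hK]; exact Subgroup.pointwise_smul_le_pointwise_smul_iff.mpr hH.2.1
  · rw [← hL] at h; exact Subgroup.pointwise_smul_le_pointwise_smul_iff.mp h

/-- A subgroup `D` normalising `K` and `L` acts on `subgroupsIn m K L`; all its fixed points are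
normalised by `D`. Counting mod `p`. -/
theorem card_subgroupsIn_modEq {D : Subgroup G} (hD : IsPGroup p D) {m : ℕ} {K L : Subgroup G}
    (hK : ∀ x ∈ D, MulAut.conj x • K = K) (hL : ∀ x ∈ D, MulAut.conj x • L = L) :
    Nat.card (subgroupsIn m K L) ≡
      Nat.card {H : subgroupsIn m K L // D ≤ Subgroup.normalizer ((H : Subgroup G) : Set G)} [MOD p] := by
  letI : MulAction D (subgroupsIn m K L) :=
    { smul := fun x H => ⟨MulAut.conj (x : G) • (H : Subgroup G),
        subgroupsIn_smul (hK _ x.2) (hL _ x.2) H.2⟩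
      one_smul := fun H => Subtype.ext (by
        show MulAut.conj ((1 : D) : G) • (H : Subgroup G) = H
        rw [OneMemClass.coe_one, map_one, one_smul])
      mul_smul := fun x y H => Subtype.ext (by
        show MulAut.conj ((x * y : D) : G) • (H : Subgroup G) = _
        rw [Subgroup.coe_mul, map_mul, mul_smul]
        rfl) }
  refine (hD.card_modEq_card_fixedPoints (subgroupsIn m K L)).trans ?_
  refine Eq.subst (motive := fun t => t ≡ _ [MOD p]) ?_ (Nat.ModEq.refl _)
  refine Nat.card_congr (Equiv.subtypeEquivRight fun H => ?_)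
  constructor
  · intro h x
    exact Subtype.ext ((smul_eq_iff_mem_normalizer (x : G) _).mpr (h x.2))
  · intro h x hx
    exact (smul_eq_iff_mem_normalizer x _).mp (congrArg Subtype.val (h ⟨x, hx⟩))

theorem card_subgroups_eq_add (m : ℕ) (P : Subgroup G) :
    Nat.card {H : Subgroup G // Nat.card H = m} =
      Nat.card {H : Subgroup G // H ≤ P ∧ Nat.card H = m} + Nat.card (subgroupsIn m ⊤ P) := by
  classical
  rw [← Nat.card_sum]
  refine Nat.card_congr ((Equiv.sumCompl (fun H : {H : Subgroup G // Nat.card H = m} => H.1 ≤ P)).symm.trans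
    (Equiv.sumCongr ?_ ?_))
  · exact (Equiv.subtypeSubtypeEquivSubtypeInter (fun H : Subgroup G => Nat.card H = m) (fun H => H ≤ P)).trans
      (Equiv.subtypeEquivRight fun H => and_comm)
  · exact (Equiv.subtypeSubtypeEquivSubtypeInter (fun H : Subgroup G => Nat.card H = m) (fun H => ¬ H ≤ P)).trans
      (Equiv.subtypeEquivRight fun H => ⟨fun h => ⟨h.1, le_top, h.2⟩, fun h => ⟨h.1, h.2.2⟩⟩)

omit [Finite G] hp in
theorem isPGroup_of_card_eq {H : Subgroup G} {a : ℕ} (h : Nat.card H = p ^ a) : IsPGroup p H :=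
  IsPGroup.of_card h

/-- Frobenius: if `p^a` divides the order, the number of subgroups of that order is `1` mod `p`. -/
theorem card_subgroups_modEq_one {a : ℕ} (hdvd : p ^ a ∣ Nat.card G) :
    Nat.card {H : Subgroup G // Nat.card H = p ^ a} ≡ 1 [MOD p] := by
  obtain ⟨P⟩ := (inferInstance : Nonempty (Sylow p G))
  obtain ⟨n, hn⟩ := IsPGroup.iff_card.mp P.isPGroup'
  have han : a ≤ n := by
    have h := P.pow_dvd_card_of_pow_dvd_card hdvd
    rw [hn] at h
    exact (Nat.pow_dvd_pow_iff_le_right hp.out.one_lt).mp h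
  rw [card_subgroups_eq_add (p ^ a) P, card_subgroups_le]
  have h0 : Nat.card {H : subgroupsIn (p ^ a) ⊤ (P : Subgroup G) //
      (P : Subgroup G) ≤ Subgroup.normalizer ((H : Subgroup G) : Set G)} = 0 := by
    rw [Nat.card_eq_zero]
    refine Or.inl ⟨fun H => H.1.2.2.2 ?_⟩
    have hp' := IsPGroup.to_sup_of_normal_left' (isPGroup_of_card_eq H.1.2.1) P.isPGroup' H.2
    exact le_sup_left.trans (P.is_maximal' hp' le_sup_right).le
  have h1 := card_subgroupsIn_modEq (K := (⊤ : Subgroup G)) (L := (P : Subgroup G)) (m := p ^ a) P.isPGroup'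
    (fun x _ => conj_smul_eq_self (Subgroup.mem_top x)) (fun x hx => conj_smul_eq_self hx)
  rw [h0] at h1
  simpa using (card_subgroups_pGroup_modEq_one n hn a han).add h1

/-- Modulo `p²` the number of subgroups of order `p^a`, `p^(a+1)` dividing the group order, is that
of a Sylow `p`-subgroup. -/
theorem card_subgroups_modEq_sylow {a : ℕ} (hdvd : p ^ (a + 1) ∣ Nat.card G) (P : Sylow p G) :
    Nat.card {H : Subgroup G // Nat.card H = p ^ a} ≡
      Nat.card {H : Subgroup P // Nat.card H = p ^ a} [MOD p ^ 2] := by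
  haveI := Fintype.ofFinite (Subgroup G)
  obtain ⟨n, hn⟩ := IsPGroup.iff_card.mp P.isPGroup'
  have han : a + 1 ≤ n := by
    have h := P.pow_dvd_card_of_pow_dvd_card hdvd
    rw [hn] at h
    exact (Nat.pow_dvd_pow_iff_le_right hp.out.one_lt).mp h
  rw [card_subgroups_eq_add (p ^ a) P, ← card_subgroups_le (P : Subgroup G)]
  suffices h : p ^ 2 ∣ Nat.card (subgroupsIn (p ^ a) ⊤ (P : Subgroup G)) by
    simpa using (Nat.ModEq.refl (Nat.card {H : Subgroup G // H ≤ (P : Subgroup G) ∧ Nat.card H = p ^ a})).add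
      (Nat.modEq_zero_iff_dvd.mpr h)
  set R := subgroupsIn (p ^ a) ⊤ (P : Subgroup G) with hR
  have hcardQ : ∀ Q : Sylow p G, Nat.card (Q : Subgroup G) = p ^ n := fun Q => by
    rw [← hn]; exact (Nat.card_congr (Sylow.equiv Q P).toEquiv)
  -- split by the stabiliser
  let stab : R → Subgroup G := fun H => (P : Subgroup G) ⊓ Subgroup.normalizer ((H : Subgroup G) : Set G)
  letI act : MulAction (P : Subgroup G) R :=
    { smul := fun x H => ⟨MulAut.conj (x : G) • (H : Subgroup G),
        subgroupsIn_smul (conj_smul_eq_self (Subgroup.mem_top _)) (conj_smul_eq_self x.2) H.2⟩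
      one_smul := fun H => Subtype.ext (by
        show MulAut.conj ((1 : (P : Subgroup G)) : G) • (H : Subgroup G) = H
        rw [OneMemClass.coe_one, map_one, one_smul])
      mul_smul := fun x y H => Subtype.ext (by
        show MulAut.conj ((x * y : (P : Subgroup G)) : G) • (H : Subgroup G) = _
        rw [Subgroup.coe_mul, map_mul, mul_smul]
        rfl) }
  have hstab : ∀ H : R, MulAction.stabilizer (P : Subgroup G) H = (stab H).subgroupOf P := by
    intro H
    ext x
    rw [MulAction.mem_stabilizer_iff, Subgroup.mem_subgroupOf]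
    exact ⟨fun h => ⟨x.2, (smul_eq_iff_mem_normalizer _ _).mp (congrArg Subtype.val h)⟩,
      fun h => Subtype.ext ((smul_eq_iff_mem_normalizer _ _).mpr h.2)⟩
  have hne : ∀ H : R, MulAction.stabilizer (P : Subgroup G) H ≠ ⊤ := by
    intro H htop
    apply H.2.2.2
    rw [hstab, Subgroup.subgroupOf_eq_top] at htop
    have hp' := IsPGroup.to_sup_of_normal_left' (isPGroup_of_card_eq H.2.1) P.isPGroup'
      (fun x hx => (htop hx).2)
    rw [← P.is_maximal' hp' le_sup_right]
    exact le_sup_left
  rw [Nat.card_congr (Equiv.sumCompl fun H : R => (MulAction.stabilizer (P : Subgroup G) H).index = p).symm,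
    Nat.card_sum]
  refine Nat.dvd_add ?_ ?_
  · -- stabilisers of index `p`
    let f : {H : R // (MulAction.stabilizer (P : Subgroup G) H).index = p} →
        {M : Subgroup (P : Subgroup G) // M.index = p} := fun H => ⟨_, H.2⟩
    haveI := Fintype.ofFinite {M : Subgroup (P : Subgroup G) // M.index = p}
    rw [← Nat.card_congr (Equiv.sigmaFiberEquiv f), Nat.card_sigma]
    refine Finset.dvd_sum fun ⟨M, hM⟩ _ => ?_
    set M' : Subgroup G := M.map (P : Subgroup G).subtype with hM'
    have hM'P : M' ≤ P := Subgroup.map_subtype_le _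
    have hM'p : IsPGroup p M' := P.isPGroup'.to_le hM'P
    have hMcard : Nat.card M' = p ^ (n - 1) := by
      rw [hM', Subgroup.card_map_of_injective (P : Subgroup G).subtype_injective]
      exact card_of_index_eq hn (by omega) hM
    haveI := normal_of_index_eq P.isPGroup' hM
    have hPM : ∀ x ∈ (P : Subgroup G), MulAut.conj x • M' = M' := by
      intro x hx
      rw [smul_eq_iff_mem_normalizer]
      have h2 := Subgroup.le_normalizer_map (P : Subgroup G).subtype
        (Subgroup.mem_map_of_mem (P : Subgroup G).subtype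
          ((Subgroup.normalizer_eq_top M).symm ▸ Subgroup.mem_top (⟨x, hx⟩ : (P : Subgroup G)) :
            (⟨x, hx⟩ : (P : Subgroup G)) ∈ Subgroup.normalizer (M : Set (P : Subgroup G))))
      exact h2
    -- the subgroups with stabiliser `M` lie in the other Sylow subgroups containing `M`
    let Qs := {Q : Sylow p G // M' ≤ (Q : Subgroup G) ∧ Q ≠ P}
    let fib : Qs → Type _ := fun Q =>
      {H : subgroupsIn (p ^ a) ((Q : Sylow p G) : Subgroup G) M' //
        M' ≤ Subgroup.normalizer ((H : Subgroup G) : Set G)}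
    have hdisj : ∀ (Q : Qs) (H : fib Q), (H.1 : Subgroup G) ⊔ M' = ((Q : Sylow p G) : Subgroup G) := by
      intro Q H
      have hle : (H.1 : Subgroup G) ⊔ M' ≤ ((Q : Sylow p G) : Subgroup G) := sup_le H.1.2.2.1 Q.2.1
      have hlt : M' < (H.1 : Subgroup G) ⊔ M' :=
        lt_of_le_of_ne le_sup_right fun h => H.1.2.2.2 (le_sup_left.trans h.ge)
      refine Subgroup.eq_of_le_of_card_ge hle ?_
      obtain ⟨i, hi⟩ := IsPGroup.iff_card.mp ((Q : Sylow p G).isPGroup'.to_le hle)
      rw [hi, hcardQ]
      refine Nat.pow_le_pow_right hp.out.pos ?_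
      have h2 : Nat.card M' < Nat.card ↥((H.1 : Subgroup G) ⊔ M') := by
        by_contra hge
        exact hlt.ne (Subgroup.eq_of_le_of_card_ge hlt.le (not_lt.mp hge))
      rw [hi, hMcard, Nat.pow_lt_pow_iff_right hp.out.one_lt] at h2
      omega
    have hM'stab : ∀ H : R, M' ≤ Subgroup.normalizer ((H : Subgroup G) : Set G) →
        MulAction.stabilizer (P : Subgroup G) H = M := by
      intro H h
      refine (Subgroup.eq_of_le_of_card_ge ?_ ?_).symm
      · intro x hx
        rw [hstab, Subgroup.mem_subgroupOf]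
        exact ⟨x.2, h ⟨x, hx, rfl⟩⟩
      · rw [card_of_index_eq hn (by omega) hM]
        by_contra hgt
        obtain ⟨i, hi⟩ := IsPGroup.iff_card.mp
          (P.isPGroup'.to_subgroup (MulAction.stabilizer (P : Subgroup G) H))
        rw [not_le, hi, Nat.pow_lt_pow_iff_right hp.out.one_lt] at hgt
        exact hne H (Subgroup.eq_top_of_le_card _ (by
          rw [hn, hi]; exact Nat.pow_le_pow_right hp.out.pos (by omega)))
    let e : (Σ Q : Qs, fib Q) → {H // f H = ⟨M, hM⟩} := fun qh =>
      let H : R := ⟨(qh.2.1 : Subgroup G), qh.2.1.2.1, le_top, fun hle => qh.1.2.2 (Sylow.ext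
        (Subgroup.eq_of_le_of_card_ge ((hdisj qh.1 qh.2).ge.trans (sup_le hle hM'P))
          (le_of_eq ((hcardQ P).trans (hcardQ _).symm))))⟩
      ⟨⟨H, by rw [hM'stab H qh.2.2]; exact hM⟩, Subtype.ext (hM'stab H qh.2.2)⟩
    have he : Function.Bijective e := by
      constructor
      · rintro ⟨Q, H⟩ ⟨Q', H'⟩ h
        have h2 : (H.1 : Subgroup G) = (H'.1 : Subgroup G) :=
          congrArg (fun z : {H // f H = ⟨M, hM⟩} => ((z.1.1 : R) : Subgroup G)) h
        have hQ : Q = Q' := Subtype.ext (Sylow.ext (by rw [← hdisj Q H, ← hdisj Q' H', h2]))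
        subst hQ
        exact Sigma.ext rfl (heq_of_eq (Subtype.ext (Subtype.ext h2)))
      · rintro ⟨⟨H, hH⟩, hfH⟩
        have hHM : MulAction.stabilizer (P : Subgroup G) H = M := congrArg Subtype.val hfH
        have hn' : M' ≤ Subgroup.normalizer ((H : Subgroup G) : Set G) := by
          rintro _ ⟨x, hx, rfl⟩
          rw [SetLike.mem_coe, ← hHM, hstab, Subgroup.mem_subgroupOf] at hx
          exact hx.2
        have hpg := IsPGroup.to_sup_of_normal_left' (isPGroup_of_card_eq H.2.1) hM'p hn'
        obtain ⟨Q, hQ⟩ := hpg.exists_le_sylow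
        have hQP : Q ≠ P := by rintro rfl; exact H.2.2.2 (le_sup_left.trans hQ)
        have hHM' : ¬ (H : Subgroup G) ≤ M' := fun h => H.2.2.2 (h.trans hM'P)
        exact ⟨⟨⟨Q, le_sup_right.trans hQ, hQP⟩, ⟨⟨H, H.2.1, le_sup_left.trans hQ, hHM'⟩, hn'⟩⟩, rfl⟩
    rw [← Nat.card_eq_of_bijective e he]
    haveI : Fintype Qs := Fintype.ofFinite _
    rw [Nat.card_sigma]
    have hfib : ∀ Q : Qs, p ∣ Nat.card (fib Q) := by
      intro Q
      have hMQ : ∀ x ∈ M', MulAut.conj x • ((Q : Sylow p G) : Subgroup G) = (Q : Sylow p G) :=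
        fun x hx => conj_smul_eq_self (Q.2.1 hx)
      have h1 := card_subgroupsIn_modEq (p := p) (m := p ^ a) hM'p hMQ (fun x hx => conj_smul_eq_self hx)
      refine Nat.modEq_zero_iff_dvd.mp (h1.symm.trans ?_)
      have h2 := card_subgroups_pGroup_modEq_one n (hcardQ Q.1) a (by omega)
      have h3 := card_subgroups_pGroup_modEq_one (n - 1) hMcard a (by omega)
      rw [← card_subgroups_le] at h2 h3
      have h4 : Nat.card {H : Subgroup G // H ≤ ((Q : Sylow p G) : Subgroup G) ∧ Nat.card H = p ^ a} =
          Nat.card {H : Subgroup G // H ≤ M' ∧ Nat.card H = p ^ a} +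
            Nat.card (subgroupsIn (p ^ a) ((Q : Sylow p G) : Subgroup G) M') := by
        rw [← Nat.card_sum]
        refine Nat.card_congr ((Equiv.sumCompl (fun H : {H : Subgroup G //
          H ≤ ((Q : Sylow p G) : Subgroup G) ∧ Nat.card H = p ^ a} => H.1 ≤ M')).symm.trans
          (Equiv.sumCongr ?_ ?_))
        · exact (Equiv.subtypeSubtypeEquivSubtypeInter
            (fun H : Subgroup G => H ≤ ((Q : Sylow p G) : Subgroup G) ∧ Nat.card H = p ^ a)
            (fun H => H ≤ M')).trans
            (Equiv.subtypeEquivRight fun H => ⟨fun h => ⟨h.2, h.1.2⟩, fun h => ⟨⟨h.1.trans Q.2.1, h.2⟩, h.1⟩⟩)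
        · exact (Equiv.subtypeSubtypeEquivSubtypeInter
            (fun H : Subgroup G => H ≤ ((Q : Sylow p G) : Subgroup G) ∧ Nat.card H = p ^ a)
            (fun H => ¬ H ≤ M')).trans
            (Equiv.subtypeEquivRight fun H => ⟨fun h => ⟨h.1.2, h.1.1, h.2⟩, fun h => ⟨⟨h.2.1, h.1⟩, h.2.2⟩⟩)
      rw [h4] at h2
      exact (Nat.ModEq.add_left_cancel' _ (h2.trans (h3.symm.trans (Nat.ModEq.refl _))))
    -- the fibre sizes are invariant under the fixed-point-free action of `P`
    have hsum : p ∣ ∑ Q : Qs, Nat.card (fib Q) / p := by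
      letI : MulAction (P : Subgroup G) Qs :=
        { smul := fun x Q => ⟨(x : G) • (Q : Sylow p G), by
            have h := Subgroup.pointwise_smul_le_pointwise_smul_iff (a := MulAut.conj (x : G)).mpr Q.2.1
            rw [hPM _ x.2] at h
            rw [Sylow.coe_subgroup_smul]
            exact h, fun h => Q.2.2 (by
              have h2 : (x : G) • P = P := Sylow.ext (by
                rw [Sylow.coe_subgroup_smul]; exact conj_smul_eq_self x.2)
              exact smul_left_cancel _ (h.trans h2.symm))⟩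
          one_smul := fun Q => Subtype.ext (one_smul G (Q : Sylow p G))
          mul_smul := fun x y Q => Subtype.ext (mul_smul (x : G) (y : G) (Q : Sylow p G)) }
      have hinv : ∀ (x : (P : Subgroup G)) (Q : Qs), Nat.card (fib (x • Q)) = Nat.card (fib Q) := by
        intro x Q
        have hxQ : MulAut.conj (x : G) • ((Q : Sylow p G) : Subgroup G) = (((x • Q : Qs) : Sylow p G) : Subgroup G) :=
          Sylow.coe_subgroup_smul.symm
        refine (Nat.card_eq_of_bijective (fun H : fib Q => (⟨⟨MulAut.conj (x : G) • (H.1 : Subgroup G),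
            (card_conj_smul _ _).trans H.1.2.1,
            hxQ ▸ Subgroup.pointwise_smul_le_pointwise_smul_iff.mpr H.1.2.2.1,
            fun h => H.1.2.2.2 (Subgroup.pointwise_smul_le_pointwise_smul_iff.mp
              (h.trans (hPM _ x.2).ge))⟩, ?_⟩ : fib (x • Q))) ⟨?_, ?_⟩).symm
        · intro y hy
          rw [← smul_eq_iff_mem_normalizer]
          have hy' : (x : G)⁻¹ * y * x ∈ M' := by
            have := (Subgroup.mem_pointwise_smul_iff_inv_smul_mem).mp ((hPM _ x.2).ge hy)
            rwa [← map_inv, MulAut.smul_def, MulAut.conj_apply, inv_inv] at this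
          have h := (smul_eq_iff_mem_normalizer _ _).mpr (H.2 hy')
          calc MulAut.conj y • MulAut.conj (x : G) • (H.1 : Subgroup G)
              = MulAut.conj (x : G) • MulAut.conj ((x : G)⁻¹ * y * x) • (H.1 : Subgroup G) := by
                rw [← mul_smul, ← mul_smul, ← map_mul, ← map_mul]; congr 2; group
            _ = _ := by rw [h]
        · intro H H' h
          have h2 := congrArg (fun z : fib (x • Q) => (z.1 : Subgroup G)) h
          exact Subtype.ext (Subtype.ext (smul_left_cancel _ h2))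
        · intro H
          have hconj : ∀ K : Subgroup G, MulAut.conj (x : G) • MulAut.conj (x : G)⁻¹ • K = K := fun K => by
            rw [← mul_smul, ← map_mul, mul_inv_cancel, map_one, one_smul]
          have hM'' : MulAut.conj (x : G)⁻¹ • M' = M' := hPM _ (Subgroup.inv_mem _ x.2)
          refine ⟨⟨⟨MulAut.conj (x : G)⁻¹ • (H.1 : Subgroup G), (card_conj_smul _ _).trans H.1.2.1, ?_, ?_⟩, ?_⟩,
            Subtype.ext (Subtype.ext (hconj _))⟩
          · refine (Subgroup.pointwise_smul_le_pointwise_smul_iff (a := MulAut.conj (x : G))).mp ?_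
            rw [hconj, hxQ]; exact H.1.2.2.1
          · intro h
            refine H.1.2.2.2 ?_
            exact Subgroup.pointwise_smul_le_pointwise_smul_iff.mp (le_trans h hM''.ge)
          · intro y hy
            rw [← smul_eq_iff_mem_normalizer]
            have hy' : (x : G) * y * (x : G)⁻¹ ∈ M' := by
              have := (Subgroup.mem_pointwise_smul_iff_inv_smul_mem).mp (hM''.ge hy)
              rwa [← map_inv, inv_inv, MulAut.smul_def, MulAut.conj_apply] at this
            have h := (smul_eq_iff_mem_normalizer _ _).mpr (H.2 hy')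
            calc MulAut.conj y • MulAut.conj (x : G)⁻¹ • (H.1 : Subgroup G)
                = MulAut.conj (x : G)⁻¹ • MulAut.conj ((x : G) * y * (x : G)⁻¹) • (H.1 : Subgroup G) := by
                  rw [← mul_smul, ← mul_smul, ← map_mul, ← map_mul]; congr 2; group
              _ = _ := by rw [h]
      rw [← Finset.sum_fiberwise_of_maps_to (s := (Finset.univ : Finset Qs))
        (g := fun Q => Nat.card (fib Q) / p) (fun Q hQ => Finset.mem_image_of_mem _ hQ)]
      refine Finset.dvd_sum fun v _ => ?_
      rw [Finset.sum_congr rfl (g := fun _ => v) (fun Q hQ => (Finset.mem_filter.mp hQ).2),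
        Finset.sum_const, smul_eq_mul]
      refine dvd_mul_of_dvd_left ?_ v
      let S := {Q : Qs // Nat.card (fib Q) / p = v}
      letI : MulAction (P : Subgroup G) S :=
        { smul := fun x Q => ⟨x • (Q : Qs), by rw [hinv]; exact Q.2⟩
          one_smul := fun Q => Subtype.ext (one_smul (P : Subgroup G) (Q : Qs))
          mul_smul := fun x y Q => Subtype.ext (mul_smul x y (Q : Qs)) }
      have h := pow_dvd_card_of_index_stabilizer (A := (P : Subgroup G)) (X := S) p fun Q => by
        refine dvd_index_of_ne_top P.isPGroup' fun htop => Q.1.2.2 ?_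
        have hPQ : (P : Subgroup G) ≤ Subgroup.normalizer (((Q.1 : Sylow p G) : Subgroup G) : Set G) := by
          intro x hx
          have h1 : (⟨x, hx⟩ : (P : Subgroup G)) ∈ MulAction.stabilizer (P : Subgroup G) Q :=
            htop ▸ Subgroup.mem_top _
          have h2 := congrArg (fun z : S => ((z.1 : Sylow p G) : Subgroup G)) h1
          rw [← smul_eq_iff_mem_normalizer]
          exact Sylow.coe_subgroup_smul.symm.trans h2
        have hle : (P : Subgroup G) ≤ ((Q.1 : Sylow p G) : Subgroup G) := by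
          have hpg := IsPGroup.to_sup_of_normal_left' (Q.1 : Sylow p G).isPGroup' P.isPGroup' hPQ
          rw [← (Q.1 : Sylow p G).is_maximal' hpg le_sup_left]
          exact le_sup_right
        exact Sylow.ext (P.is_maximal' (Q.1 : Sylow p G).isPGroup' hle)
      rwa [Nat.card_eq_fintype_card, Fintype.card_subtype] at h
    obtain ⟨c, hc⟩ := hsum
    rw [Finset.sum_congr rfl (fun Q _ => (Nat.mul_div_cancel' (hfib Q)).symm), ← Finset.mul_sum, hc,
      ← mul_assoc, ← sq]
    exact dvd_mul_right _ _
  · -- stabilisers of index at least `p²`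
    let S := {H : R // ¬ (MulAction.stabilizer (P : Subgroup G) H).index = p}
    letI : MulAction (P : Subgroup G) S :=
      { smul := fun x H => ⟨x • (H : R), by
          rw [MulAction.stabilizer_smul_eq_stabilizer_map_conj,
            Subgroup.index_map_of_bijective (MulAut.conj x).bijective]
          exact H.2⟩
        one_smul := fun H => Subtype.ext (one_smul (P : Subgroup G) (H : R))
        mul_smul := fun x y H => Subtype.ext (mul_smul x y (H : R)) }
    refine pow_dvd_card_of_index_stabilizer (A := (P : Subgroup G)) (X := S) _ fun H => ?_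
    have hs : MulAction.stabilizer (P : Subgroup G) H = MulAction.stabilizer (P : Subgroup G) (H : R) := by
      ext x
      exact ⟨fun h => congrArg Subtype.val h, fun h => Subtype.ext h⟩
    rw [hs]
    exact dvd_sq_index_of_not_maximal P.isPGroup' (hne _) H.2

end general

end CfsgLib.PGroupCounting
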