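import Mathlib
import Cfsg.Agent.Lib.PGroupCounting.Maximal
import Cfsg.Agent.Lib.PGroupCounting.Count
import Cfsg.Agent.Lib.BGAppendix.Basic

/-!
# Kulakoff's theorem for odd primes

In a non-cyclic group of order `p^n`, `p` odd, the number of subgroups of order `p^a`, `0 < a < n`,
is `1 + p` mod `p²`.
-/

set_option autoImplicit false

open scoped commutatorElement Classical

namespace CfsgLib.PGroupCounting

theorem mul_pow_of_central_commutator {G : Type*} [Group G] (x y : G)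
    (hz : ∀ g : G, Commute ⁅y, x⁆ g) :
    ∀ m : ℕ, (x * y) ^ m = x ^ m * y ^ m * ⁅y, x⁆ ^ (m.choose 2) := by
  have hyx : y * x = x * y * ⁅y, x⁆ := by
    rw [← (hz (x * y)).eq, commutatorElement_def]; group
  have hzx : ∀ k : ℕ, y ^ k * x = x * y ^ k * ⁅y, x⁆ ^ k := by
    intro k
    induction k with
    | zero => simp
    | succ k ih =>
      calc y ^ (k + 1) * x = y ^ k * (y * x) := by rw [pow_succ, mul_assoc]
        _ = y ^ k * x * (y * ⁅y, x⁆) := by rw [hyx]; group
        _ = x * y ^ k * (⁅y, x⁆ ^ k * y) * ⁅y, x⁆ := by rw [ih]; group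
        _ = x * y ^ k * (y * ⁅y, x⁆ ^ k) * ⁅y, x⁆ := by rw [((hz y).pow_left k).eq]
        _ = x * y ^ (k + 1) * ⁅y, x⁆ ^ (k + 1) := by rw [pow_succ, pow_succ]; group
  intro m
  induction m with
  | zero => simp
  | succ m ih =>
    calc (x * y) ^ (m + 1) = x ^ m * y ^ m * (⁅y, x⁆ ^ (m.choose 2) * (x * y)) := by
          rw [pow_succ, ih]; group
      _ = x ^ m * y ^ m * ((x * y) * ⁅y, x⁆ ^ (m.choose 2)) := by rw [((hz (x * y)).pow_left _).eq]
      _ = x ^ m * (y ^ m * x) * y * ⁅y, x⁆ ^ (m.choose 2) := by group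
      _ = x ^ m * x * y ^ m * (⁅y, x⁆ ^ m * y) * ⁅y, x⁆ ^ (m.choose 2) := by rw [hzx]; group
      _ = x ^ m * x * y ^ m * (y * ⁅y, x⁆ ^ m) * ⁅y, x⁆ ^ (m.choose 2) := by rw [((hz y).pow_left m).eq]
      _ = x ^ (m + 1) * y ^ (m + 1) * ⁅y, x⁆ ^ (m + (m.choose 2)) := by
          rw [pow_succ, pow_succ, pow_add]; group
      _ = x ^ (m + 1) * y ^ (m + 1) * ⁅y, x⁆ ^ ((m + 1).choose 2) := by
          rw [show (m + 1).choose 2 = m + m.choose 2 by rw [Nat.choose_succ_succ', Nat.choose_one_right]]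

/-- If `r^p ≡ 1` mod `p^(k+1)` with `p` odd then `r ≡ 1` mod `p^k`. -/
theorem dvd_sub_one_of_dvd_pow_sub_one {p : ℕ} (hp : p.Prime) (hp2 : p ≠ 2) {r : ℤ} {k : ℕ}
    (h : (p : ℤ) ^ (k + 1) ∣ r ^ p - 1) : (p : ℤ) ^ k ∣ r - 1 := by
  have hodd : Odd p := hp.odd_of_ne_two hp2
  have h1 : (p : ℤ) ∣ r - 1 := by
    haveI : Fact p.Prime := ⟨hp⟩
    have h2 : (p : ℤ) ∣ r ^ p - 1 := (dvd_pow_self _ (Nat.succ_ne_zero k)).trans h
    rw [← ZMod.intCast_zmod_eq_zero_iff_dvd] at h2 ⊢
    push_cast at h2 ⊢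
    rwa [ZMod.pow_card] at h2
  have hnd : ¬ (p : ℤ) ∣ r := fun hd => by
    have : (p : ℤ) ∣ 1 := by simpa using dvd_sub hd h1
    have h3 : p ∣ 1 := by exact_mod_cast this
    exact hp.ne_one (Nat.dvd_one.mp h3)
  rw [pow_dvd_iff_le_emultiplicity] at h ⊢
  have he := Int.emultiplicity_pow_sub_pow hp hodd (x := r) (y := 1) (by simpa using h1) hnd p
  rw [one_pow] at he
  rw [he, hp.emultiplicity_self, Nat.cast_add, Nat.cast_one] at h
  exact (WithTop.add_le_add_iff_right ENat.one_ne_top).mp h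

variable {P : Type*} [Group P] [Finite P] {p : ℕ} [hp : Fact p.Prime]

/-- In a non-cyclic group of order `p^n`, `n ≥ 3`, `p` odd, the number of cyclic maximal subgroups is
divisible by `p`. -/
theorem dvd_card_cyclic_maximal (hp2 : p ≠ 2) {n : ℕ} (hn : Nat.card P = p ^ n) (hn3 : 3 ≤ n)
    (hnc : ¬ IsCyclic P) : p ∣ Nat.card {M : Subgroup P // M.index = p ∧ IsCyclic M} := by
  have hP : IsPGroup p P := IsPGroup.of_card hn
  rcases isEmpty_or_nonempty {M : Subgroup P // M.index = p ∧ IsCyclic M} with h | ⟨⟨M, hM, hMc⟩⟩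
  · rw [Nat.card_of_isEmpty]; exact dvd_zero p
  obtain ⟨a, rfl⟩ := Subgroup.isCyclic_iff_exists_zpowers_eq_top M |>.mp hMc
  haveI hMn := normal_of_index_eq hP hM
  have hoa : orderOf a = p ^ (n - 1) := by
    rw [← Nat.card_zpowers]; exact card_of_index_eq hn (by omega) hM
  have hpow : ∀ g : P, g ^ p ∈ Subgroup.zpowers a := fun g => by
    have := Subgroup.pow_index_mem (Subgroup.zpowers a) g
    rwa [hM] at this
  have hconj : ∀ g : P, ∃ r : ℤ, (p : ℤ) ^ (n - 2) ∣ r - 1 ∧ g * a * g⁻¹ = a ^ r := by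
    intro g
    obtain ⟨r, hr⟩ := Subgroup.mem_zpowers_iff.mp (hMn.conj_mem a (Subgroup.mem_zpowers a) g)
    refine ⟨r, ?_, hr.symm⟩
    have hit : ∀ k : ℕ, g ^ k * a * (g ^ k)⁻¹ = a ^ (r ^ k) := by
      intro k
      induction k with
      | zero => simp
      | succ k ih =>
        have h1 : g * a ^ (r ^ k) * g⁻¹ = (g * a * g⁻¹) ^ (r ^ k) := conj_zpow.symm
        rw [pow_succ' g, show g * g ^ k * a * (g * g ^ k)⁻¹ = g * (g ^ k * a * (g ^ k)⁻¹) * g⁻¹ by group,
          ih, h1, ← hr, ← zpow_mul, pow_succ' r]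
    have h1 := hit p
    obtain ⟨j, hj⟩ := Subgroup.mem_zpowers_iff.mp (hpow g)
    rw [← hj, show a ^ j * a * (a ^ j)⁻¹ = a by group] at h1
    have h2 : ((p : ℤ) ^ (n - 1)) ∣ r ^ p - 1 := by
      have : a ^ (r ^ p - 1) = 1 := by rw [zpow_sub, ← h1, zpow_one, mul_inv_cancel]
      rw [← orderOf_dvd_iff_zpow_eq_one, hoa] at this
      exact_mod_cast this
    rw [show n - 1 = n - 2 + 1 by omega] at h2
    exact dvd_sub_one_of_dvd_pow_sub_one hp.out hp2 h2
  set z := a ^ (p ^ (n - 2)) with hzdef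
  have hzp : z ^ p = 1 := by
    rw [hzdef, ← pow_mul, ← pow_succ, show n - 2 + 1 = n - 1 by omega, ← hoa, pow_orderOf_eq_one]
  have hzc : ∀ g : P, Commute z g := by
    intro g
    obtain ⟨r, ⟨s, hs⟩, hr⟩ := hconj g
    have h1 : g * z * g⁻¹ = z := by
      rw [hzdef, ← conj_pow, hr, ← zpow_natCast, ← zpow_mul, show r = 1 + (p : ℤ) ^ (n - 2) * s by omega,
        add_mul, one_mul, zpow_add, zpow_natCast]
      have : ((p : ℤ) ^ (n - 1)) ∣ (p : ℤ) ^ (n - 2) * s * ((p ^ (n - 2) : ℕ) : ℤ) := by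
        push_cast
        rw [mul_comm ((p : ℤ) ^ (n - 2)) s, mul_assoc, ← pow_add]
        exact dvd_mul_of_dvd_right (pow_dvd_pow _ (by omega)) s
      rw [orderOf_dvd_iff_zpow_eq_one.mp (by rw [hoa]; exact_mod_cast this), mul_one]
    have h2 : g * z = z * g := by
      have := congrArg (· * g) h1
      simpa [mul_assoc] using this
    exact h2.symm
  set Z := Subgroup.zpowers z with hZdef
  haveI hZn : Z.Normal := ⟨fun x hx g => by
    obtain ⟨i, rfl⟩ := Subgroup.mem_zpowers_iff.mp hx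
    rw [((hzc g).zpow_left i).symm.eq, mul_inv_cancel_right]
    exact hx⟩
  have hZM : Z ≤ Subgroup.zpowers a := by
    rw [hZdef, Subgroup.zpowers_le]; exact Subgroup.pow_mem _ (Subgroup.mem_zpowers a) _
  let φ : P ⧸ Z →* P ⧸ Subgroup.zpowers a := QuotientGroup.map Z (Subgroup.zpowers a) (MonoidHom.id P)
    (fun x hx => hZM hx)
  haveI : IsCyclic (P ⧸ Subgroup.zpowers a) := isCyclic_of_prime_card (hM : Nat.card _ = p)
  have hker : φ.ker ≤ Subgroup.center (P ⧸ Z) := by
    intro q hq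
    induction q using QuotientGroup.induction_on with
    | H x =>
    have hx : x ∈ Subgroup.zpowers a := (QuotientGroup.eq_one_iff x).mp hq
    obtain ⟨i, rfl⟩ := Subgroup.mem_zpowers_iff.mp hx
    rw [QuotientGroup.mk_zpow]
    refine Subgroup.zpow_mem _ (Subgroup.mem_center_iff.mpr fun q' => ?_) i
    induction q' using QuotientGroup.induction_on with
    | H g =>
    obtain ⟨r, ⟨s, hs⟩, hr⟩ := hconj g
    rw [← QuotientGroup.mk_mul, ← QuotientGroup.mk_mul, QuotientGroup.eq]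
    have h3 : g * a = a ^ r * g := by rw [← hr]; group
    have h4 : (g * a)⁻¹ * (a * g) = g⁻¹ * a ^ (-(r - 1)) * g := by rw [h3]; group
    rw [h4]
    have h5 : a ^ (-(r - 1)) ∈ Z := by
      refine ⟨-s, ?_⟩
      show z ^ (-s) = _
      rw [hzdef, ← zpow_natCast, ← zpow_mul, hs]
      congr 1
      push_cast
      ring
    simpa using hZn.conj_mem _ h5 g⁻¹
  have hcomm : ∀ x y : P, ⁅x, y⁆ ∈ Z := by
    intro x y
    rw [← QuotientGroup.eq_one_iff]
    have h := commutative_of_cyclic_center_quotient φ hker (x : P ⧸ Z) (y : P ⧸ Z)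
    change QuotientGroup.mk' Z ⁅x, y⁆ = 1
    rw [map_commutatorElement, commutatorElement_eq_one_iff_mul_comm]
    exact h
  have hpmul : ∀ x y : P, (x * y) ^ p = x ^ p * y ^ p := by
    intro x y
    obtain ⟨i, hi⟩ := Subgroup.mem_zpowers_iff.mp (hcomm y x)
    rw [mul_pow_of_central_commutator x y (fun g => hi ▸ (hzc g).zpow_left i) p]
    obtain ⟨c, hc⟩ : p ∣ p.choose 2 :=
      hp.out.dvd_choose_self (by norm_num) (lt_of_le_of_ne hp.out.two_le (Ne.symm hp2))
    rw [hc, pow_mul, ← hi]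
    have hone : (z ^ i) ^ p = 1 := by
      rw [← zpow_natCast, ← zpow_mul, mul_comm, zpow_mul, zpow_natCast, hzp, one_zpow]
    rw [hone, one_pow, mul_one]
  have hqmul : ∀ (k : ℕ) (x y : P), (x * y) ^ p ^ k = x ^ p ^ k * y ^ p ^ k := by
    intro k
    induction k with
    | zero => simp
    | succ k ih => intro x y; rw [pow_succ, pow_mul, pow_mul, pow_mul, ih, hpmul]
  let f : P →* P := MonoidHom.mk' (fun x => x ^ p ^ (n - 2)) (hqmul _)
  have hexp : ∀ x : P, x ^ p ^ (n - 1) = 1 := by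
    intro x
    obtain ⟨i, hi, hox⟩ := (Nat.dvd_prime_pow hp.out).mp (hn ▸ orderOf_dvd_natCard x : orderOf x ∣ p ^ n)
    have hlt : i < n := by
      refine lt_of_le_of_ne hi fun h => hnc ?_
      exact isCyclic_of_orderOf_eq_card x (by rw [hox, h, hn])
    exact orderOf_dvd_iff_pow_eq_one.mp (hox ▸ pow_dvd_pow p (by omega))
  have hran : f.range ≤ Z := by
    rintro _ ⟨x, rfl⟩
    show x ^ p ^ (n - 2) ∈ Z
    obtain ⟨j, hj⟩ := Subgroup.mem_zpowers_iff.mp (hpow x)
    have hx1 : x ^ p ^ (n - 2) = a ^ (j * ((p ^ (n - 3) : ℕ) : ℤ)) := by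
      rw [show n - 2 = n - 3 + 1 by omega, pow_succ', pow_mul, ← hj, ← zpow_natCast, ← zpow_mul]
    have h1 : a ^ (j * ((p ^ (n - 3) : ℕ) : ℤ) * p) = 1 := by
      rw [zpow_mul, ← hx1, zpow_natCast, ← pow_mul, ← pow_succ, show n - 2 + 1 = n - 1 by omega, hexp]
    rw [← orderOf_dvd_iff_zpow_eq_one, hoa] at h1
    rw [show n - 1 = n - 2 + 1 by omega, pow_succ] at h1
    push_cast at h1
    obtain ⟨s, hs⟩ := Int.dvd_of_mul_dvd_mul_right (by exact_mod_cast hp.out.ne_zero) h1
    refine ⟨s, ?_⟩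
    show z ^ s = _
    rw [hx1, hzdef, ← zpow_natCast, ← zpow_mul]
    congr 1
    push_cast at hs ⊢
    linarith
  have hkerdvd : p ^ (n - 1) ∣ Nat.card f.ker := by
    have h2 : Nat.card f.range ∣ p := (Subgroup.card_dvd_of_le hran).trans
      (by rw [hZdef, Nat.card_zpowers]; exact orderOf_dvd_of_pow_eq_one hzp)
    have h3 := f.ker.card_mul_index
    rw [Subgroup.index_ker, hn] at h3
    obtain ⟨c, hc⟩ := h2
    refine ⟨c, Nat.eq_of_mul_eq_mul_right (Nat.card_pos (α := f.range)) ?_⟩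
    calc Nat.card f.ker * Nat.card f.range = p ^ n := h3
      _ = p ^ (n - 1) * p := by rw [← pow_succ]; congr 1; omega
      _ = p ^ (n - 1) * (Nat.card f.range * c) := by rw [← hc]
      _ = p ^ (n - 1) * c * Nat.card f.range := by ring
  -- count elements of order `p^(n-1)`
  have hiff : ∀ x : P, x ∈ f.ker ↔ orderOf x ≠ p ^ (n - 1) := by
    intro x
    rw [MonoidHom.mem_ker]
    show x ^ p ^ (n - 2) = 1 ↔ _
    obtain ⟨i, hi, hox⟩ := (Nat.dvd_prime_pow hp.out).mp (orderOf_dvd_of_pow_eq_one (hexp x))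
    rw [← orderOf_dvd_iff_pow_eq_one, hox, Nat.pow_dvd_pow_iff_le_right hp.out.one_lt, ne_eq,
      Nat.pow_right_inj hp.out.two_le]
    omega
  haveI := Fintype.ofFinite P
  haveI := Fintype.ofFinite {M : Subgroup P // M.index = p ∧ IsCyclic M}
  have hcount : Nat.card {x : P // orderOf x = p ^ (n - 1)} =
      Nat.card {M : Subgroup P // M.index = p ∧ IsCyclic M} * (p ^ (n - 2) * (p - 1)) := by
    let F : {x : P // orderOf x = p ^ (n - 1)} → {M : Subgroup P // M.index = p ∧ IsCyclic M} :=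
      fun x => ⟨Subgroup.zpowers x.1, by
        have h1 := (Subgroup.zpowers x.1).card_mul_index
        rw [Nat.card_zpowers, x.2, hn, show p ^ n = p ^ (n - 1) * p by rw [← pow_succ]; congr 1; omega] at h1
        exact Nat.eq_of_mul_eq_mul_left (pow_pos hp.out.pos _) h1, inferInstance⟩
    rw [← Nat.card_congr (Equiv.sigmaFiberEquiv F), Nat.card_sigma]
    rw [Finset.sum_congr rfl (g := fun _ => p ^ (n - 2) * (p - 1)) (fun M _ => ?_), Finset.sum_const,
      Finset.card_univ, smul_eq_mul, ← Nat.card_eq_fintype_card]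
    obtain ⟨M, hMi, hMc'⟩ := M
    have hMcard : Nat.card M = p ^ (n - 1) := card_of_index_eq hn (by omega) hMi
    haveI := hMc'
    have h1 : Nat.card {y : M // orderOf y = p ^ (n - 1)} = p ^ (n - 2) * (p - 1) := by
      haveI := Fintype.ofFinite M
      rw [Nat.card_eq_fintype_card, Fintype.card_subtype,
        IsCyclic.card_orderOf_eq_totient (by rw [← Nat.card_eq_fintype_card, hMcard]),
        Nat.totient_prime_pow hp.out (by omega), show n - 1 - 1 = n - 2 by omega]
    rw [← h1]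
    refine Nat.card_congr
      { toFun := fun x => ⟨⟨x.1.1, by
          have h : Subgroup.zpowers x.1.1 = M := congrArg Subtype.val x.2
          exact h.le (Subgroup.mem_zpowers x.1.1)⟩, by rw [Subgroup.orderOf_mk]; exact x.1.2⟩
        invFun := fun y => ⟨⟨y.1.1, by rw [Subgroup.orderOf_coe]; exact y.2⟩, Subtype.ext
          (Subgroup.eq_of_le_of_card_ge (Subgroup.zpowers_le.mpr y.1.2) (by
            rw [Nat.card_zpowers, Subgroup.orderOf_coe, y.2, hMcard]))⟩
        left_inv := fun x => rfl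
        right_inv := fun y => rfl }
  have hsplit : Nat.card f.ker + Nat.card {x : P // orderOf x = p ^ (n - 1)} = p ^ n := by
    rw [← hn, ← Nat.card_congr (Equiv.sumCompl fun x : P => x ∈ f.ker), Nat.card_sum]
    congr 1
    exact Nat.card_congr (Equiv.subtypeEquivRight fun x => by rw [hiff, not_not])
  have hdvd : p ^ (n - 1) ∣ Nat.card {x : P // orderOf x = p ^ (n - 1)} := by
    rw [← Nat.dvd_add_right hkerdvd, hsplit]
    exact pow_dvd_pow p (Nat.sub_le n 1)
  rw [hcount, show n - 1 = n - 2 + 1 by omega, pow_succ, ← mul_assoc,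
    mul_comm (Nat.card _) (p ^ (n - 2)), mul_assoc] at hdvd
  have h5 := Nat.dvd_of_mul_dvd_mul_left (pow_pos hp.out.pos _) hdvd
  refine (hp.out.dvd_mul.mp h5).resolve_right fun h => ?_
  have := Nat.le_of_dvd (Nat.sub_pos_of_lt hp.out.one_lt) h
  have := hp.out.pos
  omega

theorem card_subgroups_eq_one_of_isCyclic [IsCyclic P] {n a : ℕ} (hn : Nat.card P = p ^ n) (ha : a ≤ n) :
    Nat.card {H : Subgroup P // Nat.card H = p ^ a} = 1 := by
  obtain ⟨H, hH⟩ := Sylow.exists_subgroup_card_pow_prime (G := P) p (hn ▸ pow_dvd_pow p ha : p ^ a ∣ Nat.card P)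
  haveI : Unique {H : Subgroup P // Nat.card H = p ^ a} :=
    { default := ⟨H, hH⟩
      uniq := fun K => Subtype.ext (CfsgLib.BGAppendix.eq_of_card_eq_of_le_cyclic ⊤ K.1 H
        (Subgroup.topEquiv.isCyclic.mpr inferInstance) le_top le_top (K.2.trans hH.symm)) }
  exact Nat.card_unique

theorem card_subgroups_index_prime_eq {n : ℕ} (hn : Nat.card P = p ^ n) (hn1 : 1 ≤ n) :
    Nat.card {H : Subgroup P // Nat.card H = p ^ (n - 1)} = Nat.card {M : Subgroup P // M.index = p} := by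
  refine Nat.card_congr (Equiv.subtypeEquivRight fun H => ⟨fun h => ?_, fun h => card_of_index_eq hn hn1 h⟩)
  have h1 := H.card_mul_index
  rw [h, hn, show p ^ n = p ^ (n - 1) * p by rw [← pow_succ]; congr 1; omega] at h1
  exact Nat.eq_of_mul_eq_mul_left (pow_pos hp.out.pos _) h1

/-- **Kulakoff's theorem**, odd primes. -/
theorem kulakoff (hp2 : p ≠ 2) :
    ∀ (n : ℕ) {P : Type*} [Group P] [Finite P], Nat.card P = p ^ n → ¬ IsCyclic P →
      ∀ a, 1 ≤ a → a < n → Nat.card {H : Subgroup P // Nat.card H = p ^ a} ≡ 1 + p [MOD p ^ 2] := by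
  intro n
  induction n with
  | zero => intro P _ _ _ _ a _ h; omega
  | succ n ih =>
    intro P _ _ hn hnc a ha1 ha
    have hP : IsPGroup p P := IsPGroup.of_card hn
    rcases Nat.lt_or_ge a n with hlt | hge
    swap
    · rw [show a = n + 1 - 1 by omega, card_subgroups_index_prime_eq hn (by omega)]
      exact card_index_prime_modEq hP hnc
    haveI := Fintype.ofFinite (Subgroup P)
    rw [← ZMod.natCast_eq_natCast_iff, cast_card_subgroups_eq_sum hn (by omega),
      cast_modEq (card_index_prime_modEq hP hnc)]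
    have hM : ∀ M ∈ Finset.univ.filter (fun M : Subgroup P => M.index = p),
        ((Nat.card {H : Subgroup P // H ≤ M ∧ Nat.card H = p ^ a} : ℕ) : ZMod (p ^ 2)) =
          ((1 + p : ℕ) : ZMod (p ^ 2)) - (if IsCyclic M then (p : ZMod (p ^ 2)) else 0) := by
      intro M hM
      have hMc := card_of_index_eq hn (by omega) (Finset.mem_filter.mp hM).2
      rw [Nat.add_sub_cancel] at hMc
      rw [card_subgroups_le]
      split_ifs with hc
      · rw [card_subgroups_eq_one_of_isCyclic hMc hlt.le]; push_cast; ring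
      · rw [cast_modEq (ih hMc hc a ha1 hlt), sub_zero]
    rw [Finset.sum_congr rfl hM, Finset.sum_sub_distrib, Finset.sum_const, ← Finset.sum_filter,
      Finset.sum_const, Finset.filter_filter]
    obtain ⟨t, ht⟩ := dvd_card_cyclic_maximal hp2 hn (by omega) hnc
    have hN := cast_modEq (card_index_prime_modEq hP hnc)
    rw [Nat.card_eq_fintype_card, Fintype.card_subtype] at hN ht
    rw [ht]
    have hpp : ((p : ZMod (p ^ 2))) * p = 0 := by
      rw [← Nat.cast_mul, ← sq]; exact ZMod.natCast_self _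
    simp only [nsmul_eq_mul, hN]
    push_cast
    linear_combination ((1 : ZMod (p ^ 2)) - (t : ZMod (p ^ 2))) * hpp

end CfsgLib.PGroupCounting
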