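import Mathlib
import Cfsg.Prelude.Def_PLocal
import Cfsg.Agent.Lib.PGroupCounting.Maximal

/-!
# Elements of bounded order in a regular `p`-group
-/

set_option autoImplicit false

open scoped commutatorElement

namespace CfsgLib.PGroupCounting

variable {G : Type*} [Group G] [Finite G] {p : ℕ} [hp : Fact p.Prime]

/-- In a regular `p`-group a product of two elements of order dividing `p^k` has order dividing `p^k`. -/
theorem regular_mul_pow_eq_one (hG : Cfsg.IsRegularPGroup p G) (k : ℕ) :
    ∀ a b : G, a ^ p ^ k = 1 → b ^ p ^ k = 1 → (a * b) ^ p ^ k = 1 := by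
  suffices h : ∀ (m : ℕ) (a b : G), Nat.card (Subgroup.closure ({a, b} : Set G)) = m →
      a ^ p ^ k = 1 → b ^ p ^ k = 1 → (a * b) ^ p ^ k = 1 from
    fun a b => h _ a b rfl
  intro m
  induction m using Nat.strong_induction_on with
  | _ m ih =>
    intro a b hm ha hb
    obtain ⟨c, hc, he⟩ := hG.2 a b k
    set H := Subgroup.closure ({a, b} : Set G) with hH
    have haH : a ∈ H := Subgroup.subset_closure (by simp)
    have hbH : b ∈ H := Subgroup.subset_closure (by simp)
    suffices hD : ∀ x ∈ ⁅H, H⁆, x ^ p ^ k = 1 by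
      have hc1 : c = 1 := by
        have hle : Cfsg.powerClosure p k ⁅H, H⁆ ≤ ⊥ := by
          rw [Cfsg.powerClosure, Subgroup.closure_le]
          rintro y ⟨x, hx, rfl⟩
          exact hD x hx
        exact Subgroup.mem_bot.mp (hle hc)
      rw [he, ha, hb, hc1, one_mul, one_mul]
    by_cases hab : Commute a b
    · have hle : ⁅H, H⁆ ≤ ⊥ := by
        rw [le_bot_iff, Subgroup.commutator_eq_bot_iff_le_centralizer, hH, Subgroup.closure_le]
        intro x hx
        rw [SetLike.mem_coe, Subgroup.centralizer_closure, Subgroup.mem_centralizer_iff]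
        rintro y hy
        simp only [Set.mem_insert_iff, Set.mem_singleton_iff] at hx hy
        rcases hx with rfl | rfl <;> rcases hy with rfl | rfl <;>
          first | rfl | exact hab.eq | exact hab.eq.symm
      intro x hx
      rw [Subgroup.mem_bot.mp (hle hx), one_pow]
    -- a maximal subgroup of `H` containing `a`
    have hHp : IsPGroup p H := hG.1.to_subgroup H
    have hne : Subgroup.zpowers (⟨a, haH⟩ : H) ≠ ⊤ := by
      intro htop
      apply hab
      obtain ⟨i, hi⟩ := Subgroup.mem_zpowers_iff.mp (htop ▸ Subgroup.mem_top (⟨b, hbH⟩ : H))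
      have h2 : a ^ i = b := congrArg Subtype.val hi
      rw [← h2]
      exact (Commute.refl a).zpow_right i
    obtain ⟨M', hM', haM'⟩ := exists_index_prime_ge hHp hne
    haveI := normal_of_index_eq hHp hM'
    set M := M'.map H.subtype with hMdef
    have hMH : M ≤ H := Subgroup.map_subtype_le _
    have hMlt : Nat.card M < m := by
      rw [← hm, hMdef, Subgroup.card_map_of_injective H.subtype_injective, ← M'.card_mul_index, hM']
      exact lt_mul_of_one_lt_right Nat.card_pos hp.out.one_lt
    have haM : a ∈ M := ⟨⟨a, haH⟩, haM' (Subgroup.mem_zpowers _), rfl⟩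
    have hMnorm : ∀ g ∈ H, ∀ x ∈ M, g * x * g⁻¹ ∈ M := by
      rintro g hg _ ⟨x, hx, rfl⟩
      exact ⟨⟨g, hg⟩ * x * ⟨g, hg⟩⁻¹, (inferInstance : M'.Normal).conj_mem x hx _, rfl⟩
    let Ω : Subgroup G :=
      { carrier := {x | x ∈ M ∧ x ^ p ^ k = 1}
        one_mem' := ⟨M.one_mem, one_pow _⟩
        inv_mem' := fun {x} hx => ⟨M.inv_mem hx.1, by rw [inv_pow, hx.2, inv_one]⟩
        mul_mem' := fun {x y} hx hy => ⟨M.mul_mem hx.1 hy.1, by
          refine ih _ (lt_of_le_of_lt (Subgroup.card_le_of_le ?_) hMlt) x y rfl hx.2 hy.2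
          rw [Subgroup.closure_le]
          rintro z (rfl | rfl)
          · exact hx.1
          · exact hy.1⟩ }
    have hconjΩ : ∀ g ∈ H, ∀ x ∈ Ω, g * x * g⁻¹ ∈ Ω := fun g hg x hx =>
      ⟨hMnorm g hg x hx.1, by rw [conj_pow, hx.2, mul_one, mul_inv_cancel]⟩
    haveI hΩn : (Ω.subgroupOf H).Normal := ⟨fun x hx g => by
      rw [Subgroup.mem_subgroupOf] at hx ⊢
      exact hconjΩ g g.2 x hx⟩
    have haΩ : a ∈ Ω := ⟨haM, ha⟩
    have habΩ : ⁅a, b⁆ ∈ Ω := by
      have h1 := Ω.mul_mem haΩ (hconjΩ b hbH a⁻¹ (Ω.inv_mem haΩ))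
      rw [commutatorElement_def]
      simpa [mul_assoc] using h1
    -- the quotient of `H` by `Ω` is abelian
    let π : H →* H ⧸ Ω.subgroupOf H := QuotientGroup.mk' _
    have hsurj : Function.Surjective π := QuotientGroup.mk'_surjective _
    have hpi : ∀ x y : H, (x : G) = a ∨ (x : G) = b → (y : G) = a ∨ (y : G) = b → Commute (π x) (π y) := by
      intro x y hx hy
      rw [← commutatorElement_eq_one_iff_commute, ← map_commutatorElement]
      refine (QuotientGroup.eq_one_iff _).mpr (Subgroup.mem_subgroupOf.mpr ?_)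
      change ⁅(x : G), (y : G)⁆ ∈ Ω
      rcases hx with hx | hx <;> rcases hy with hy | hy <;> rw [hx, hy]
      · rw [commutatorElement_self]; exact Ω.one_mem
      · exact habΩ
      · rw [← commutatorElement_inv]; exact Ω.inv_mem habΩ
      · rw [commutatorElement_self]; exact Ω.one_mem
    have hcomm : ∀ x y : H, Commute (π x) (π y) := by
      have hgen : Subgroup.closure (((↑) : H → G) ⁻¹' ({a, b} : Set G)) = ⊤ :=
        Subgroup.closure_closure_coe_preimage
      intro x y
      have hx := hgen.symm ▸ Subgroup.mem_top x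
      have hy := hgen.symm ▸ Subgroup.mem_top y
      induction hx using Subgroup.closure_induction with
      | mem x hx =>
        induction hy using Subgroup.closure_induction with
        | mem y hy => exact hpi x y (by simpa using hx) (by simpa using hy)
        | one => rw [map_one]; exact Commute.one_right _
        | mul _ _ _ _ h1 h2 => rw [map_mul]; exact h1.mul_right h2
        | inv _ _ h1 => rw [map_inv]; exact h1.inv_right
      | one => rw [map_one]; exact Commute.one_left _
      | mul _ _ _ _ h1 h2 => rw [map_mul]; exact h1.mul_left h2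
      | inv _ _ h1 => rw [map_inv]; exact h1.inv_left
    intro x hx
    have hle : ⁅H, H⁆ ≤ Ω := by
      rw [Subgroup.commutator_le]
      intro u hu v hv
      have h := hcomm ⟨u, hu⟩ ⟨v, hv⟩
      rw [← commutatorElement_eq_one_iff_commute, ← map_commutatorElement] at h
      exact Subgroup.mem_subgroupOf.mp ((QuotientGroup.eq_one_iff _).mp h)
    exact (hle hx).2

/-- The elements of order dividing `p^k` of a regular `p`-group, as a subgroup. -/
def regularOmega (hG : Cfsg.IsRegularPGroup p G) (k : ℕ) : Subgroup G where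
  carrier := {x | x ^ p ^ k = 1}
  one_mem' := one_pow _
  mul_mem' := fun {a b} ha hb => regular_mul_pow_eq_one hG k a b ha hb
  inv_mem' := fun {a} ha => by
    show a⁻¹ ^ p ^ k = 1
    rw [inv_pow, (ha : a ^ p ^ k = 1), inv_one]

theorem regularOmega_characteristic (hG : Cfsg.IsRegularPGroup p G) (k : ℕ) :
    (regularOmega hG k).Characteristic := by
  refine Subgroup.characteristic_iff_comap_eq.mpr fun φ => ?_
  ext x
  show (φ x) ^ p ^ k = 1 ↔ x ^ p ^ k = 1
  rw [← map_pow, map_eq_one_iff φ φ.injective]

end CfsgLib.PGroupCounting
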